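import Cfsg.Agent.ThreeTransposition.M22Count.Involutions

/-!
# Involutions lift to a double cover of `PSU(6, 2)`

In any central extension by a group of order at most two, lifts of transvections at orthogonal points commute and lifts of
transvections are involutions: both follow from the relation of the five transvections of a totally isotropic line.
-/

set_option autoImplicit false
set_option linter.unusedSectionVars false
set_option linter.style.haveILetI false

namespace Cfsg.Lib.DoubleCover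

open Cfsg Subgroup Cfsg.Lib.Classical Cfsg.Lib.TTUnitary Cfsg.Lib.ThreeTr

universe u v w w'

section Cover

variable {C : Type w} [Group C] {Q : Type w'} [Group Q] {π : C →* Q} {z : C}

/-- A central extension by `⟨z⟩` with `z * z = 1`. -/
structure IsDouble (π : C →* Q) (z : C) : Prop where
  surj : Function.Surjective π
  sq : z * z = 1
  central : ∀ x, Commute z x
  ker : ∀ x, π x = 1 → x = 1 ∨ x = z

/-- All lifts of the two elements commute. -/
def LiftsCommute (π : C →* Q) (s t : Q) : Prop := ∀ x y, π x = s → π y = t → Commute x y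

/-- All lifts of the element square to one. -/
def LiftsSq (π : C →* Q) (s : Q) : Prop := ∀ x, π x = s → x * x = 1

variable (h : IsDouble π z)
include h

theorem lift_cases {x y : C} (e : π x = π y) : x = y ∨ x = z * y := by
  rcases h.ker (x * y⁻¹) (by rw [map_mul, map_inv, e, mul_inv_cancel]) with e' | e'
  · exact Or.inl (mul_inv_eq_one.mp e')
  · exact Or.inr (mul_inv_eq_iff_eq_mul.mp e')

theorem sq_eq {x y : C} (e : π x = π y) : x * x = y * y := by
  rcases lift_cases h e with rfl | rfl
  · rfl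
  · rw [(h.central y).symm.mul_mul_mul_comm, h.sq, one_mul]

theorem liftsCommute_refl (s : Q) : LiftsCommute π s s := fun x y hx hy => by
  rcases lift_cases h (hx.trans hy.symm) with rfl | rfl
  · exact Commute.refl _
  · exact (h.central _).mul_left (Commute.refl _)

theorem liftsCommute_symm {s t : Q} (e : LiftsCommute π s t) : LiftsCommute π t s := fun x y hx hy => (e y x hy hx).symm

theorem liftsCommute_conj (g : Q) {s t : Q} (e : LiftsCommute π s t) :
    LiftsCommute π (g * s * g⁻¹) (g * t * g⁻¹) := fun x y hx hy => by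
  obtain ⟨c, rfl⟩ := h.surj g
  have := (e (c⁻¹ * x * c) (c⁻¹ * y * c) (by rw [map_mul, map_mul, hx, map_inv]; group)
    (by rw [map_mul, map_mul, hy, map_inv]; group)).map (MulAut.conj c).toMonoidHom
  simpa [mul_assoc] using this

theorem liftsSq_conj (g : Q) {s : Q} (e : LiftsSq π s) : LiftsSq π (g * s * g⁻¹) := fun x hx => by
  obtain ⟨c, rfl⟩ := h.surj g
  have h1 := e (c⁻¹ * x * c) (by rw [map_mul, map_mul, hx, map_inv]; group)
  calc x * x = c * ((c⁻¹ * x * c) * (c⁻¹ * x * c)) * c⁻¹ := by group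
    _ = 1 := by rw [h1, mul_one, mul_inv_cancel]

/-- Commuting up to `z`. -/
theorem comm_cases {x y : C} (e : Commute (π x) (π y)) : x * y = y * x ∨ x * y = z * (y * x) :=
  lift_cases h (by rw [map_mul, map_mul]; exact e.eq)

/-- Five elements with product one, all behaving alike against a further one. -/
theorem liftsCommute_five {v : Q} {t : Fin 5 → Q} (hv : ∀ i, Commute v (t i))
    (hprod : t 0 * t 1 * t 2 * t 3 * t 4 = 1) (hiff : ∀ i, LiftsCommute π v (t i) ↔ LiftsCommute π v (t 0)) :
    LiftsCommute π v (t 0) := by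
  by_contra hn
  have hneg : ∀ i x y, π x = v → π y = t i → x * y = z * (y * x) := fun i x y hx hy => by
    refine (comm_cases h (show Commute (π x) (π y) by rw [hx, hy]; exact hv i)).resolve_left fun e => hn ((hiff i).1 ?_)
    intro x' y' hx' hy'
    have hxy : Commute x y := e
    rcases lift_cases h (hx'.trans hx.symm) with rfl | rfl <;> rcases lift_cases h (hy'.trans hy.symm) with rfl | rfl
    · exact hxy
    · exact (h.central _).symm.mul_right hxy
    · exact (h.central _).mul_left hxy
    · exact ((h.central _).mul_left ((h.central _).symm.mul_right hxy))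
  obtain ⟨x, hx⟩ := h.surj v
  choose y hy using fun i => h.surj (t i)
  have hc : ∀ i, x * y i = z * (y i * x) := fun i => hneg i x (y i) hx (hy i)
  set P := y 0 * y 1 * y 2 * y 3 * y 4 with hP
  have hcomm : Commute x P := by
    rcases h.ker P (by simp only [hP, map_mul, hy, hprod]) with e | e <;> rw [e]
    · exact Commute.one_right x
    · exact (h.central x).symm
  have hmove : ∀ (a : C) i, x * (a * y i) = (x * a) * y i := fun a i => (mul_assoc _ _ _).symm
  have key : x * P = z * (P * x) := by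
    have hz : ∀ a : C, a * z = z * a := fun a => (h.central a).symm.eq
    have step : ∀ (a : C) (k : C) i, x * a = k * (a * x) → (∀ b, Commute k b) →
        x * (a * y i) = (k * z) * (a * y i * x) := fun a k i e hk => by
      rw [hmove, e, mul_assoc, mul_assoc, hc i, ← mul_assoc a z, hz a]
      simp only [mul_assoc]
    have k1 : ∀ b, Commute (z * z) b := fun b => by rw [h.sq]; exact Commute.one_left b
    have s0 : x * y 0 = z * (y 0 * x) := hc 0
    have s1 := step _ _ 1 s0 h.central
    have s2 := step _ _ 2 s1 k1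
    have s3 := step _ _ 3 s2 (fun b => by rw [h.sq, one_mul]; exact h.central b)
    have s4 := step _ _ 4 s3 (fun b => by rw [h.sq, one_mul, h.sq]; exact Commute.one_left b)
    rw [hP, s4, h.sq, one_mul, h.sq, one_mul]
  rw [hcomm.eq] at key
  have hz1 : z = 1 := by
    conv_lhs at key => rw [← one_mul (P * x)]
    exact (mul_right_cancel key).symm
  exact hn ((hiff 0).1 fun x' y' hx' hy' => by
    rcases comm_cases h (show Commute (π x') (π y') by rw [hx', hy']; exact hv 0) with e | e
    · exact e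
    · rw [hz1, one_mul] at e; exact e)

/-- Five elements with product one, commuting lifts, and squares alike. -/
theorem liftsSq_five {t : Fin 5 → Q} (hc : ∀ i j, LiftsCommute π (t i) (t j))
    (hprod : t 0 * t 1 * t 2 * t 3 * t 4 = 1) (hinv : ∀ i, t i * t i = 1)
    (hiff : ∀ i, LiftsSq π (t i) ↔ LiftsSq π (t 0)) : LiftsSq π (t 0) := by
  by_contra hn
  choose y hy using fun i => h.surj (t i)
  have hy2 : ∀ i, y i * y i = z := fun i => by
    refine (h.ker _ (by rw [map_mul, hy, hinv])).resolve_left fun e => hn ((hiff i).1 fun x hx => ?_)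
    rw [sq_eq h (hx.trans (hy i).symm), e]
  have hcy : ∀ i j, Commute (y i) (y j) := fun i j => hc i j _ _ (hy i) (hy j)
  set P := y 0 * y 1 * y 2 * y 3 * y 4 with hP
  have hP2 : P * P = 1 := by
    rcases h.ker P (by simp only [hP, map_mul, hy, hprod]) with e | e <;> rw [e]
    · exact one_mul 1
    · exact h.sq
  have : P * P = z := by
    have c1 : Commute (y 0 * y 1) (y 2) := (hcy 0 2).mul_left (hcy 1 2)
    have c2 : Commute (y 0 * y 1 * y 2) (y 3) := ((hcy 0 3).mul_left (hcy 1 3)).mul_left (hcy 2 3)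
    have c3 : Commute (y 0 * y 1 * y 2 * y 3) (y 4) :=
      (((hcy 0 4).mul_left (hcy 1 4)).mul_left (hcy 2 4)).mul_left (hcy 3 4)
    rw [hP, c3.symm.mul_mul_mul_comm, c2.symm.mul_mul_mul_comm, c1.symm.mul_mul_mul_comm,
      (hcy 0 1).symm.mul_mul_mul_comm, hy2, hy2, hy2, hy2, hy2, h.sq, one_mul, h.sq, one_mul]
  refine hn fun x hx => ?_
  rw [sq_eq h (hx.trans (hy 0).symm), hy2, ← this, hP2]

theorem list_commute : ∀ {l : List Q}, (∀ s ∈ l, ∀ t ∈ l, LiftsCommute π s t) → (∀ s ∈ l, LiftsSq π s) →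
    ∀ x, π x = l.prod → x * x = 1 := by
  intro l
  suffices H : (∀ s ∈ l, ∀ t ∈ l, LiftsCommute π s t) → (∀ s ∈ l, LiftsSq π s) →
      ∃ y, π y = l.prod ∧ y * y = 1 ∧ ∀ c, (∀ s ∈ l, ∀ x, π x = s → Commute c x) → Commute c y by
    intro h1 h2 x hx
    obtain ⟨y, hy, hy2, -⟩ := H h1 h2
    rw [sq_eq h (hx.trans hy.symm), hy2]
  induction l with
  | nil => exact fun _ _ => ⟨1, by simp, one_mul 1, fun c _ => Commute.one_right c⟩
  | cons s l ih =>
    intro h1 h2
    obtain ⟨y, hy, hy2, hyc⟩ := ih (fun a ha b hb => h1 a (.tail _ ha) b (.tail _ hb)) fun a ha => h2 a (.tail _ ha)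
    obtain ⟨x, hx⟩ := h.surj s
    have hxy : Commute x y := hyc x fun t ht x' hx' => h1 s (.head _) t (.tail _ ht) x x' hx hx'
    refine ⟨x * y, by rw [map_mul, hx, hy, List.prod_cons], ?_, fun c hc => ?_⟩
    · rw [hxy.symm.mul_mul_mul_comm, h2 s (.head _) x hx, hy2, one_mul]
    · exact (hc s (.head _) x hx).mul_right (hyc c fun t ht => hc t (.tail _ ht))

end Cover

section Six

variable {F : Type u} [Field F] [Finite F] {V : Type v} [AddCommGroup V] [Module F V] {H : HermSpace F V}
  (hS : IsSixSpace H)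
include hS

theorem five_prod {p q : V} (hp : H.h p p = 0) (hq : H.h q q = 0) (hpq : H.h p q = 0) {ω : F}
    (hσω : H.σ ω = ω + 1) (hωω : ω * ω = ω + 1) :
    TTUnitary.tv hS.toFour q * TTUnitary.tv hS.toFour p * TTUnitary.tv hS.toFour (p + q) *
      TTUnitary.tv hS.toFour (p + ω • q) * TTUnitary.tv hS.toFour (p + (ω + 1) • q) = 1 := by
  have hqp : H.h q p = 0 := H.eq_zero_symm hpq
  have hiso : ∀ β : F, H.h (p + β • q) (p + β • q) = 0 := fun β => by
    simp only [H.add_left, H.add_right, H.smul_left, H.smul_right, hp, hq, hpq, hqp, mul_zero, add_zero]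
  have h1 := hiso 1
  rw [one_smul] at h1
  refine H.sisom_ext fun x => ?_
  simp only [HermSpace.smul_mul_apply, TTUnitary.tv_apply hS.toFour hp, TTUnitary.tv_apply hS.toFour hq,
    TTUnitary.tv_apply hS.toFour h1, TTUnitary.tv_apply hS.toFour (hiso ω), TTUnitary.tv_apply hS.toFour (hiso (ω + 1)),
    H.add_left, H.smul_left, H.add_right, H.smul_right, map_add, map_one, hσω, hp, hq, hpq, hqp, mul_zero, zero_mul,
    add_zero, zero_smul, smul_add, smul_smul]
  show _ = x
  match_scalars
  all_goals ring_nf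
  all_goals simp [show ω ^ 2 = ω + 1 from (sq ω).trans hωω, hS.two, hS.four]

/-- Independent orthogonal isotropic vectors have a third one beyond them. -/
theorem exists_third {u w : V} (hu : H.h u u = 0) (hw : H.h w w = 0) (huw : H.h u w = 0)
    (hind : u ∉ Submodule.span F ({w} : Set V)) (hw0 : w ≠ 0) :
    ∃ r, H.h r r = 0 ∧ H.h u r = 0 ∧ H.h w r = 0 ∧
      ∀ α β : F, (α ≠ 0 ∨ β ≠ 0) → u ∉ Submodule.span F ({α • w + β • r} : Set V) ∧ α • w + β • r ≠ 0 := by
  haveI := hS.fd
  have hq := hS.toFour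
  obtain ⟨u', hu1, hu2, hu3⟩ := H.exists_pair_orth hu huw hind
  have p : Pair H ⊤ u u' := ⟨Submodule.mem_top, Submodule.mem_top, hu, hu2, hu1⟩
  have hn : H.NondegOn (perp2 H ⊤ u u') := p.nondeg hq (fun v _ h => H.nondeg v fun x => h x trivial)
  have hwm : w ∈ perp2 H ⊤ u u' := mem_perp2.mpr ⟨trivial, H.eq_zero_symm huw, hu3⟩
  obtain ⟨w', p'⟩ := exists_pair hn hwm hw0 hw
  have hd := p.finrank hq
  have hd' := p'.finrank hq
  rw [finrank_top, hS.dim] at hd
  obtain ⟨r, hr, hr0, hrr⟩ := exists_iso (p'.nondeg hq hn) (by omega)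
  obtain ⟨hr', hrw, hrw'⟩ := mem_perp2.mp hr
  obtain ⟨-, hru, hru'⟩ := mem_perp2.mp hr'
  refine ⟨r, hrr, H.eq_zero_symm hru, H.eq_zero_symm hrw, fun α β hab => ⟨fun hm => ?_, fun e => ?_⟩⟩
  · obtain ⟨c, hc⟩ := Submodule.mem_span_singleton.mp hm
    have := congrArg (fun x => H.h x u') hc
    simp only [H.smul_left, H.add_left, hu3, hru', mul_zero, add_zero, hu1] at this
    exact zero_ne_one this
  · have h1 := congrArg (fun x => H.h x w') e
    simp only [H.smul_left, H.add_left, p'.prod, hrw', mul_zero, add_zero, mul_one, H.zero_left] at h1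
    rw [h1, zero_smul, zero_add, smul_eq_zero] at e
    rcases hab with h | h
    · exact h h1
    · exact e.elim h hr0

variable {C : Type w} [Group C] {Q : Type w'} [Group Q] {π : C →* Q} {z : C} (hd : IsDouble π z)
  (φ : H.SIsom →* Q)
include hd

/-- Both properties for an independent orthogonal pair. -/
theorem pair_lifts {u w : V} (hu : H.h u u = 0) (hw : H.h w w = 0) (huw : H.h u w = 0)
    (hind : u ∉ Submodule.span F ({w} : Set V)) (hw0 : w ≠ 0) :
    LiftsCommute π (φ (TTUnitary.tv hS.toFour u)) (φ (TTUnitary.tv hS.toFour w)) ∧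
      ((∀ a b : V, H.h a a = 0 → H.h b b = 0 → H.h a b = 0 →
        LiftsCommute π (φ (TTUnitary.tv hS.toFour a)) (φ (TTUnitary.tv hS.toFour b))) →
        LiftsSq π (φ (TTUnitary.tv hS.toFour w))) := by
  haveI := hS.fd
  have hq := hS.toFour
  obtain ⟨r, hr, hur, hwr, hline⟩ := exists_third hS hu hw huw hind hw0
  obtain ⟨ω, hω⟩ := H.conj.exists_trace_one
  have hω0 : ω ≠ 0 := fun e => by rw [e, map_zero, zero_add] at hω; exact zero_ne_one hω
  have hω1 : ω ≠ 1 := fun e => by rw [e, map_one, hS.add_self] at hω; exact zero_ne_one hω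
  have hσω : H.σ ω = ω + 1 := by linear_combination hω - ω * hS.two
  have hωω : ω * ω = ω + 1 := by
    have := hS.norm ω hω0
    rw [hσω] at this
    linear_combination this - ω * hS.two
  let pts : Fin 5 → V := ![r, w, w + r, w + ω • r, w + (ω + 1) • r]
  let al : Fin 5 → F := ![0, 1, 1, 1, 1]
  let be : Fin 5 → F := ![1, 0, 1, ω, ω + 1]
  have hpts : ∀ i, pts i = al i • w + be i • r := fun i => by
    fin_cases i <;> simp [pts, al, be]
  have hne : ∀ i, al i ≠ 0 ∨ be i ≠ 0 := fun i => by fin_cases i <;> simp [al, be]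
  have hrw : H.h r w = 0 := H.eq_zero_symm hwr
  have hiso : ∀ i, H.h (pts i) (pts i) = 0 := fun i => by
    simp only [hpts, H.add_left, H.add_right, H.smul_left, H.smul_right, hw, hr, hwr, hrw, mul_zero, add_zero]
  have horth : ∀ i, H.h u (pts i) = 0 := fun i => by
    simp only [hpts, H.add_right, H.smul_right, huw, hur, mul_zero, add_zero]
  have hin : ∀ i j, H.h (pts i) (pts j) = 0 := fun i j => by
    simp only [hpts, H.add_left, H.add_right, H.smul_left, H.smul_right, hw, hr, hwr, hrw, mul_zero, add_zero]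
  set t : Fin 5 → Q := fun i => φ (TTUnitary.tv hq (pts i)) with ht
  have hprod : t 0 * t 1 * t 2 * t 3 * t 4 = 1 := by
    have := congrArg φ (five_prod hS hw hr hwr hσω hωω)
    rw [map_one, map_mul, map_mul, map_mul, map_mul] at this
    exact this
  have hconj : ∀ i, ∃ g : Q, g * φ (TTUnitary.tv hq u) * g⁻¹ = φ (TTUnitary.tv hq u) ∧ g * t 1 * g⁻¹ = t i := by
    intro i
    have hh := hline (al i) (be i) (hne i)
    rw [← hpts] at hh
    obtain ⟨g, hg, ⟨a, ha⟩, hgq⟩ := H.exists_SIsom_map_orth hu (hiso 1) (hiso i) (horth 1) (horth i)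
      (by simpa [pts] using hind) hh.1 (by simpa [pts] using hw0) hh.2
    have hu0 : u ≠ 0 := fun e => hind (by rw [e]; exact Submodule.zero_mem _)
    have ha0 : a ≠ 0 := fun e => H.isom_ne_zero g hu0 (by rw [ha, e, zero_smul])
    refine ⟨φ ⟨g, hg⟩, ?_, ?_⟩
    · rw [← map_inv, ← map_mul, ← map_mul, tv_conj hq _ hu, show (⟨g, hg⟩ : H.SIsom).1.1 u = a • u from ha,
        tv_smul hq hu ha0]
    · rw [ht]
      rw [← map_inv, ← map_mul, ← map_mul, tv_conj hq _ (hiso 1), show (⟨g, hg⟩ : H.SIsom).1.1 (pts 1) = pts i from hgq]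
  have hiff1 : ∀ i, (LiftsCommute π (φ (TTUnitary.tv hq u)) (t i) ↔ LiftsCommute π (φ (TTUnitary.tv hq u)) (t 1)) ∧
      (LiftsSq π (t i) ↔ LiftsSq π (t 1)) := by
    intro i
    obtain ⟨g, hgu, hgt⟩ := hconj i
    have hinv : ∀ a b : Q, g * a * g⁻¹ = b → g⁻¹ * b * g⁻¹⁻¹ = a := fun a b e => by rw [← e]; group
    have e1 := hinv _ _ hgu
    have e2 := hinv _ _ hgt
    refine ⟨⟨fun e => ?_, fun e => ?_⟩, ⟨fun e => ?_, fun e => ?_⟩⟩
    · have := liftsCommute_conj hd g⁻¹ e; rwa [e1, e2] at this
    · have := liftsCommute_conj hd g e; rwa [hgu, hgt] at this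
    · exact e2 ▸ liftsSq_conj hd g⁻¹ e
    · exact hgt ▸ liftsSq_conj hd g e
  refine ⟨(hiff1 0).1.1 (liftsCommute_five hd (fun i => ((tv_commute hq hu (hiso i) (H.eq_zero_symm (horth i))).map φ))
    hprod fun i => (hiff1 i).1.trans (hiff1 0).1.symm), fun hall => ?_⟩
  refine (hiff1 0).2.1 (liftsSq_five hd (fun i j => hall _ _ (hiso i) (hiso j) (hin i j)) hprod
    (fun i => by rw [ht]; exact (map_mul φ _ _).symm.trans (by rw [tv_sq hq (hiso i), map_one]))
    fun i => (hiff1 i).2.trans (hiff1 0).2.symm)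

theorem all_commute {a b : V} (ha : H.h a a = 0) (hb : H.h b b = 0) (hab : H.h a b = 0) :
    LiftsCommute π (φ (TTUnitary.tv hS.toFour a)) (φ (TTUnitary.tv hS.toFour b)) := by
  have hq := hS.toFour
  have h1 : ∀ x : Q, LiftsCommute π x 1 := fun x c c' _ h' => by
    rcases hd.ker c' h' with rfl | rfl
    exacts [Commute.one_right c, (hd.central c).symm]
  have h0 : φ (TTUnitary.tv hq (0 : V)) = 1 := by
    rw [show TTUnitary.tv hq (0 : V) = 1 from H.sisom_ext fun x => by
      rw [TTUnitary.tv_apply hq (H.zero_left 0), smul_zero, add_zero]; rfl, map_one]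
  rcases eq_or_ne b 0 with rfl | hb0
  · rw [h0]; exact h1 _
  rcases eq_or_ne a 0 with rfl | ha0
  · rw [h0]; exact liftsCommute_symm hd (h1 _)
  by_cases hm : a ∈ Submodule.span F ({b} : Set V)
  · obtain ⟨c, rfl⟩ := Submodule.mem_span_singleton.mp hm
    rw [tv_smul hq hb (fun e => ha0 (by rw [e, zero_smul]))]
    exact liftsCommute_refl hd _
  · exact (pair_lifts hS hd φ ha hb hab hm hb0).1

theorem all_sq {w : V} (hw : H.h w w = 0) (hw0 : w ≠ 0) : LiftsSq π (φ (TTUnitary.tv hS.toFour w)) := by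
  haveI := hS.fd
  have hq := hS.toFour
  have hn : H.NondegOn (⊤ : Submodule F V) := fun v _ h => H.nondeg v fun x => h x trivial
  obtain ⟨w', p⟩ := exists_pair hn Submodule.mem_top hw0 hw
  have h4 := p.finrank hq
  rw [finrank_top, hS.dim] at h4
  obtain ⟨u, hu, hu0, huu⟩ := exists_iso (p.nondeg hq hn) (by omega)
  obtain ⟨-, huw, huw'⟩ := mem_perp2.mp hu
  refine (pair_lifts hS hd φ huu hw huw (fun hm => ?_) hw0).2 fun a b ha hb hab => all_commute hS hd φ ha hb hab
  obtain ⟨c, rfl⟩ := Submodule.mem_span_singleton.mp hm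
  rw [H.smul_left, p.prod, mul_one] at huw'
  exact hu0 (by rw [huw', zero_smul])

/-- Every involution lifts to involutions. -/
theorem involution_lift (hφ : Function.Surjective φ) (hker : φ.ker ≤ center H.SIsom) {q : Q} (hq2 : q * q = 1)
    {x : C} (hx : π x = q) : x * x = 1 := by
  haveI := hS.fd
  obtain ⟨T₀, hT₀⟩ := hφ q
  have hz : T₀ * T₀ ∈ center H.SIsom := hker (MonoidHom.mem_ker.2 (by rw [map_mul, hT₀, hq2]))
  obtain ⟨k, hk1, hk6, hkx⟩ := (H.mem_center_SIsom_iff (by rw [hS.dim]; norm_num)).1 hz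
  have hk3 : k * k * k = 1 := by
    rw [hS.dim] at hk6
    have h3 : (k * k * k + 1) * (k * k * k + 1) = 0 := by
      linear_combination hk6 + (k * k * k + 1) * hS.two
    linear_combination mul_self_eq_zero.mp h3 - hS.two
  set T := T₀ * T₀ * T₀ with hTdef
  have hT : T * T = 1 := by
    refine H.sisom_ext fun v => ?_
    simp only [hTdef, HermSpace.smul_mul_apply] at hkx ⊢
    simp only [hkx, map_smul, smul_smul]
    rw [hk3, one_smul]
    rfl
  have hφT : φ T = q := by rw [hTdef, map_mul, map_mul, hT₀, hq2, one_mul]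
  obtain ⟨L, -, hLi, hLc, hLT⟩ := hS.involution_prod_three hT
  refine list_commute hd (l := L.map fun u => φ (TTUnitary.tv hS.toFour u)) (fun s hs t ht => ?_) (fun s hs => ?_) x ?_
  · obtain ⟨a, ha, rfl⟩ := List.mem_map.mp hs
    obtain ⟨b, hb, rfl⟩ := List.mem_map.mp ht
    exact all_commute hS hd φ (hLi a ha).1 (hLi b hb).1 (hLc a ha b hb)
  · obtain ⟨a, ha, rfl⟩ := List.mem_map.mp hs
    exact all_sq hS hd φ (hLi a ha).1 (hLi a ha).2
  · rw [hx, ← hφT, hLT, map_list_prod, List.map_map]
    rfl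

end Six

end Cfsg.Lib.DoubleCover
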