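import Cfsg.Agent.ThreeTransposition.DoubleCover.Lift
import Cfsg.Agent.ThreeTransposition.M22Count.MaxClique
import Cfsg.Agent.ThreeTransposition.M22Count.CliqueStab
import Cfsg.Agent.ThreeTransposition.Primitive

/-!
# Involutions lift to a double cover of a group of type M(22)

Some seven or five members of a maximal commuting set have product one; an odd relation forces lifts of commuting members
to commute and lifts of members to be involutions.
-/

set_option autoImplicit false
set_option linter.unusedSectionVars false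
set_option linter.style.haveILetI false

namespace Cfsg.Lib.DoubleCover

open Cfsg Subgroup Cfsg.Lib.ThreeTr

universe w w'

variable {C : Type w} [Group C] {Q : Type w'} [Group Q] {π : C →* Q} {z : C}

theorem liftsCommute_list (hd : IsDouble π z) {v : Q} {l : List Q} (hl : Odd l.length) (hv : ∀ t ∈ l, Commute v t)
    (hprod : l.prod = 1) (hiff : ∀ s ∈ l, ∀ t ∈ l, LiftsCommute π v s → LiftsCommute π v t) :
    ∀ t ∈ l, LiftsCommute π v t := by
  by_contra hn
  push Not at hn
  obtain ⟨t₀, ht₀, hn⟩ := hn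
  obtain ⟨x, hx⟩ := hd.surj v
  have hneg : ∀ t ∈ l, ∀ y, π y = t → x * y = z * (y * x) := fun t ht y hy => by
    refine (comm_cases hd (show Commute (π x) (π y) by rw [hx, hy]; exact hv t ht)).resolve_left fun e => hn
      (hiff t ht t₀ ht₀ fun x' y' hx' hy' => ?_)
    have hxy : Commute x y := e
    rcases lift_cases hd (hx'.trans hx.symm) with rfl | rfl <;>
      rcases lift_cases hd (hy'.trans hy.symm) with rfl | rfl
    · exact hxy
    · exact (hd.central _).symm.mul_right hxy
    · exact (hd.central _).mul_left hxy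
    · exact ((hd.central _).mul_left ((hd.central _).symm.mul_right hxy))
  have key : ∀ m : List Q, (∀ t ∈ m, t ∈ l) → ∃ y, π y = m.prod ∧ x * y = z ^ m.length * (y * x) := by
    intro m hm
    induction m with
    | nil => exact ⟨1, by simp, by simp⟩
    | cons t m ih =>
      obtain ⟨y, hy, hy'⟩ := ih fun s hs => hm s (.tail _ hs)
      obtain ⟨c, hc⟩ := hd.surj t
      refine ⟨c * y, by rw [map_mul, hc, hy, List.prod_cons], ?_⟩
      have hz : ∀ a : C, a * z ^ m.length = z ^ m.length * a := fun a => ((hd.central a).pow_left _).symm.eq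
      rw [← mul_assoc x c y, hneg t (hm t (.head _)) c hc, mul_assoc z, mul_assoc c, hy', ← mul_assoc c, hz c,
        List.length_cons, pow_succ']
      simp only [mul_assoc]
  obtain ⟨y, hy, hy'⟩ := key l fun _ h => h
  obtain ⟨k, hk⟩ := hl
  rw [hk, pow_succ, pow_mul, pow_two, hd.sq, one_pow, one_mul] at hy'
  have hcomm : Commute x y := by
    rcases hd.ker y (hy.trans hprod) with e | e <;> rw [e]
    · exact Commute.one_right x
    · exact (hd.central x).symm
  rw [hcomm.eq] at hy'
  have hz1 : z = 1 := by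
    conv_lhs at hy' => rw [← one_mul (y * x)]
    exact (mul_right_cancel hy').symm
  refine hn fun x' y' hx' hy'' => ?_
  rcases comm_cases hd (show Commute (π x') (π y') by rw [hx', hy'']; exact hv t₀ ht₀) with e | e
  · exact e
  · rw [hz1, one_mul] at e; exact e

theorem liftsSq_list (hd : IsDouble π z) {l : List Q} (hl : Odd l.length)
    (hc : ∀ s ∈ l, ∀ t ∈ l, LiftsCommute π s t) (hinv : ∀ t ∈ l, t * t = 1) (hprod : l.prod = 1)
    (hiff : ∀ s ∈ l, ∀ t ∈ l, LiftsSq π s → LiftsSq π t) : ∀ t ∈ l, LiftsSq π t := by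
  by_contra hn
  push Not at hn
  obtain ⟨t₀, ht₀, hn⟩ := hn
  have hy2 : ∀ t ∈ l, ∀ y, π y = t → y * y = z := fun t ht y hy => by
    refine (hd.ker _ (by rw [map_mul, hy, hinv t ht])).resolve_left fun e => hn (hiff t ht t₀ ht₀ fun x hx => ?_)
    rw [sq_eq hd (hx.trans hy.symm), e]
  have key : ∀ m : List Q, (∀ t ∈ m, t ∈ l) → ∃ y, π y = m.prod ∧ y * y = z ^ m.length ∧
      ∀ c, (∀ s ∈ m, ∀ x, π x = s → Commute c x) → Commute c y := by
    intro m hm
    induction m with
    | nil => exact ⟨1, by simp, by simp, fun c _ => Commute.one_right c⟩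
    | cons t m ih =>
      obtain ⟨y, hy, hy', hyc⟩ := ih fun s hs => hm s (.tail _ hs)
      obtain ⟨c, hc'⟩ := hd.surj t
      have hcy : Commute c y := hyc c fun s hs x hx => hc t (hm t (.head _)) s (hm s (.tail _ hs)) c x hc' hx
      refine ⟨c * y, by rw [map_mul, hc', hy, List.prod_cons], ?_, fun a ha => ?_⟩
      · rw [hcy.symm.mul_mul_mul_comm, hy2 t (hm t (.head _)) c hc', hy', List.length_cons, pow_succ']
      · exact (ha t (.head _) c hc').mul_right (hyc a fun s hs => ha s (.tail _ hs))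
  obtain ⟨y, hy, hy', -⟩ := key l fun _ h => h
  obtain ⟨k, hk⟩ := hl
  rw [hk, pow_succ, pow_mul, pow_two, hd.sq, one_pow, one_mul] at hy'
  refine hn fun x hx => ?_
  rw [hy2 t₀ ht₀ x hx, ← hy']
  rcases hd.ker y (hy.trans hprod) with e | e <;> rw [e]
  exacts [one_mul 1, hd.sq]

variable [Finite Q] {D : Set Q}

theorem exists_maxClique (h : M22 D) : ∃ B, IsMaxClique D B := by
  obtain ⟨B, ⟨h1, h2⟩, hmax⟩ := WellFounded.has_min (wellFounded_gt (α := Set Q))
    {B | B ⊆ D ∧ ∀ x ∈ B, ∀ y ∈ B, Commute x y} ⟨∅, Set.empty_subset _, by simp⟩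
  refine ⟨B, h1, h2, fun y hy hc => by_contra fun hyB => hmax (insert y B) ⟨Set.insert_subset hy h1, ?_⟩
    (Set.ssubset_insert hyB)⟩
  rintro a (rfl | ha) b (rfl | hb)
  exacts [Commute.refl _, hc b hb, (hc a ha).symm, h2 a ha b hb]

/-- An odd relation inside a maximal commuting set. -/
theorem exists_odd_relation (h : M22 D) {B : Set Q} (hB : IsMaxClique D B) :
    ∃ l : List Q, Odd l.length ∧ l.length ≤ 7 ∧ (∀ x ∈ l, x ∈ B) ∧ l.prod = 1 := by
  classical
  by_contra hcon
  push Not at hcon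
  have hsq : ∀ x ∈ B, x * x = 1 := fun x hx => sq_eq_one h.cls.1 (hB.sub hx)
  have h22 := hB.ncard_eq h
  -- the products of pairs together with one
  set Bf := (Set.toFinite B).toFinset with hBf
  have hmem : ∀ b, b ∈ Bf ↔ b ∈ B := fun b => Set.Finite.mem_toFinset _
  have hcard : Bf.card = 22 := by rw [← h22, hBf, Set.ncard_eq_toFinset_card B (Set.toFinite _)]
  have hprodP : ∀ a ∈ B, ∀ b ∈ B, ∀ c ∈ B, ∀ e ∈ B, a ≠ b → c ≠ e →
      a * b * (c * e) = 1 ∨ ∃ p q, p ∈ B ∧ q ∈ B ∧ p ≠ q ∧ a * b * (c * e) = p * q := by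
    intro a ha b hb c hc e he hab hce
    have cm := hB.comm
    by_cases hca : c = a
    · subst hca
      by_cases heb : e = b
      · subst heb; exact Or.inl (by rw [(cm c hc e he).symm.mul_mul_mul_comm, hsq c hc, hsq e he, one_mul])
      · exact Or.inr ⟨b, e, hb, he, fun k => heb k.symm, by
          rw [(cm c hc b hb).eq, mul_assoc, ← mul_assoc c c e, hsq c hc, one_mul]⟩
    by_cases hea : e = a
    · subst hea
      by_cases hcb : c = b
      · subst hcb; exact Or.inl (by rw [mul_assoc, ← mul_assoc c c, hsq c hc, one_mul, hsq e he])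
      · exact Or.inr ⟨b, c, hb, hc, fun k => hcb k.symm, by
          rw [(cm e he b hb).eq, mul_assoc, (cm c hc e he).eq, ← mul_assoc e, hsq e he, one_mul]⟩
    by_cases hcb : c = b
    · subst hcb
      exact Or.inr ⟨a, e, ha, he, fun k => hea k.symm, by rw [mul_assoc, ← mul_assoc c, hsq c hc, one_mul]⟩
    by_cases heb : e = b
    · subst heb
      exact Or.inr ⟨a, c, ha, hc, fun k => hca k.symm, by
        rw [mul_assoc, (cm c hc e he).eq, ← mul_assoc e, hsq e he, one_mul]⟩
    obtain ⟨m, hm, hm1, hm3, hmB, hmp⟩ := hB.four_in h (a := a) (b := b) (c := c) (e := e)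
      (by simp [hab, hce, Ne.symm hca, Ne.symm hea, Ne.symm hcb, Ne.symm heb])
      (by simp [ha, hb, hc, he])
    match m, hm1, hm3 with
    | [p], _, _ =>
      refine absurd ?_ (hcon [a, b, c, e, p] ⟨2, by simp⟩ (by simp) (by
        simp only [List.mem_cons, List.not_mem_nil, or_false] at hmB ⊢
        rintro x (rfl | rfl | rfl | rfl | rfl)
        exacts [ha, hb, hc, he, hmB _ rfl]))
      have hp : p = a * b * c * e := by simpa using hmp
      simp only [List.prod_cons, List.prod_nil, mul_one]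
      rw [← mul_assoc, ← mul_assoc, ← mul_assoc, ← hp, hsq p (hmB p (by simp))]
    | [p, q], _, _ =>
      refine Or.inr ⟨p, q, hmB p (by simp), hmB q (by simp), by simpa using hm, ?_⟩
      rw [← mul_assoc, ← hmp]; simp
    | [p, q, r], _, _ =>
      refine absurd ?_ (hcon [a, b, c, e, r, q, p] ⟨3, by simp⟩ (by simp) (by
        simp only [List.mem_cons, List.not_mem_nil, or_false] at hmB ⊢
        rintro x (rfl | rfl | rfl | rfl | rfl | rfl | rfl)
        exacts [ha, hb, hc, he, hmB _ (Or.inr (Or.inr rfl)), hmB _ (Or.inr (Or.inl rfl)), hmB _ (Or.inl rfl)]))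
      have hp : p * (q * r) = a * b * c * e := by simpa using hmp
      simp only [List.prod_cons, List.prod_nil, mul_one]
      rw [← mul_assoc, ← mul_assoc, ← mul_assoc, ← hp]
      simp only [mul_assoc]
      rw [← mul_assoc r r, hsq r (hmB r (by simp)), one_mul, ← mul_assoc q q, hsq q (hmB q (by simp)), one_mul,
        hsq p (hmB p (by simp))]
  set P : Finset Q := insert 1 (Bf.offDiag.image fun pr => pr.1 * pr.2) with hP
  have hPmem : ∀ x, x ∈ P ↔ x = 1 ∨ ∃ p q, p ∈ B ∧ q ∈ B ∧ p ≠ q ∧ x = p * q := fun x => by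
    simp only [hP, Finset.mem_insert, Finset.mem_image, Finset.mem_offDiag, hmem, Prod.exists]
    exact or_congr Iff.rfl ⟨fun ⟨p, q, ⟨h1, h2, h3⟩, e⟩ => ⟨p, q, h1, h2, h3, e.symm⟩,
      fun ⟨p, q, h1, h2, h3, e⟩ => ⟨p, q, ⟨h1, h2, h3⟩, e.symm⟩⟩
  let S : Subgroup Q :=
    { carrier := {x | x ∈ P}
      one_mem' := (hPmem 1).2 (Or.inl rfl)
      mul_mem' := fun {x y} hx hy => by
        simp only [Set.mem_setOf_eq, hPmem] at hx hy ⊢
        rcases hx with rfl | ⟨a, b, ha, hb, hab, rfl⟩
        · simpa using hy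
        rcases hy with rfl | ⟨c, e, hc, he, hce, rfl⟩
        · exact Or.inr ⟨a, b, ha, hb, hab, mul_one _⟩
        rcases hprodP a ha b hb c hc e he hab hce with k | k
        exacts [Or.inl k, Or.inr k]
      inv_mem' := fun {x} hx => by
        simp only [Set.mem_setOf_eq, hPmem] at hx ⊢
        rcases hx with rfl | ⟨a, b, ha, hb, hab, rfl⟩
        · exact Or.inl inv_one
        · exact Or.inr ⟨b, a, hb, ha, hab.symm, by
            rw [mul_inv_rev, inv_eq_of_mul_eq_one_right (hsq a ha), inv_eq_of_mul_eq_one_right (hsq b hb)]⟩ }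
  have hScard : Nat.card ↥S = P.card := by
    rw [← Nat.card_eq_finsetCard P]
    exact Nat.card_congr (Equiv.refl _)
  haveI : Fact (Nat.Prime 2) := ⟨Nat.prime_two⟩
  have hle : S ≤ Subgroup.closure B := fun x hx => by
    rcases (hPmem x).1 hx with rfl | ⟨p, q, hp, hq, -, rfl⟩
    exacts [one_mem _, mul_mem (subset_closure hp) (subset_closure hq)]
  obtain ⟨k, hk⟩ := (IsPGroup.iff_card (p := 2) (G := ↥S)).1 fun g =>
    ⟨1, Subtype.ext (by simpa [sq] using (hB.closure_elementary h).1 _ (hle g.2))⟩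
  have himg : (Bf.offDiag.image fun pr => pr.1 * pr.2).card = 231 := by
    have h2 : ∀ z ∈ Bf.offDiag.image (fun pr => pr.1 * pr.2),
        (Bf.offDiag.filter fun pr => pr.1 * pr.2 = z).card = 2 := by
      intro z hz
      obtain ⟨⟨p, q⟩, hpq, rfl⟩ := Finset.mem_image.1 hz
      rw [Finset.mem_offDiag, hmem, hmem] at hpq
      obtain ⟨hp, hq, hne⟩ := hpq
      rw [show (Bf.offDiag.filter fun pr => pr.1 * pr.2 = p * q) = {(p, q), (q, p)} from ?_,
        Finset.card_pair (fun e => hne (congrArg Prod.fst e))]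
      ext ⟨a, b⟩
      simp only [Finset.mem_filter, Finset.mem_offDiag, hmem, Finset.mem_insert, Finset.mem_singleton,
        Prod.mk.injEq]
      constructor
      · rintro ⟨⟨ha, hb, hab⟩, e⟩
        have hu := pair_unique h.cls.1 h.twin (l := [a, b]) (l' := [p, q]) rfl rfl (by simpa using hab)
          (by simpa using hne) (by simp [hB.sub ha, hB.sub hb]) (by simp [hB.sub hp, hB.sub hq])
          (fun u hu v hv => hB.comm u (by simp at hu; rcases hu with rfl | rfl <;> assumption) v
            (by simp at hv; rcases hv with rfl | rfl <;> assumption))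
          (fun u hu v hv => hB.comm u (by simp at hu; rcases hu with rfl | rfl <;> assumption) v
            (by simp at hv; rcases hv with rfl | rfl <;> assumption))
          (by simpa using e)
        have ha' := (hu a).1 (by simp)
        have hb' := (hu b).1 (by simp)
        simp only [List.mem_cons, List.not_mem_nil, or_false] at ha' hb'
        rcases ha' with rfl | rfl <;> rcases hb' with rfl | rfl <;> simp_all
      · rintro (⟨e1, e2⟩ | ⟨e1, e2⟩) <;> rw [e1, e2]
        · exact ⟨⟨hp, hq, hne⟩, rfl⟩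
        · exact ⟨⟨hq, hp, hne.symm⟩, (hB.comm q hq p hp).eq⟩
    have h1 := Finset.card_eq_sum_card_image (fun pr : Q × Q => pr.1 * pr.2) Bf.offDiag
    rw [Finset.sum_congr rfl h2, Finset.sum_const, Finset.offDiag_card, hcard, smul_eq_mul] at h1
    omega
  have hP232 : P.card = 232 := by
    rw [hP, Finset.card_insert_of_notMem ?_, himg]
    intro hh
    obtain ⟨⟨p, q⟩, hpq, e⟩ := Finset.mem_image.1 hh
    rw [Finset.mem_offDiag, hmem, hmem] at hpq
    exact hpq.2.2 (by rw [mul_eq_one_iff_eq_inv.1 e, inv_eq_of_mul_eq_one_right (hsq q hpq.2.1)])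
  rw [hScard, hP232] at hk
  rcases le_or_gt k 7 with hk7 | hk7
  · have := Nat.pow_le_pow_right (show 1 ≤ 2 by norm_num) hk7; omega
  · have := Nat.pow_le_pow_right (show 1 ≤ 2 by norm_num) (show 8 ≤ k from hk7); omega

/-- Involutions lift to involutions. -/
theorem involution_lift_m22 (hd : IsDouble π z) (h : M22 D) {q : Q} (hq : q * q = 1) {x : C} (hx : π x = q) :
    x * x = 1 := by
  classical
  obtain ⟨B, hB⟩ := exists_maxClique h
  obtain ⟨l, hlodd, hl7, hlB, hlprod⟩ := exists_odd_relation h hB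
  have hlne : ∃ t, t ∈ l := by
    rcases l with _ | ⟨t, l⟩
    · simp at hlodd
    · exact ⟨t, .head _⟩
  obtain ⟨v, hvB, hvl⟩ : ∃ v ∈ B, v ∉ l := by
    by_contra hh
    push Not at hh
    have h1 := Set.ncard_le_ncard (s := B) (t := (l.toFinset : Set Q)) (fun b hb => by simpa using hh b hb)
      (Finset.finite_toSet _)
    rw [hB.ncard_eq h, Set.ncard_coe_finset] at h1
    have := List.toFinset_card_le l
    omega
  have hperp : ∀ t ∈ l, t ∈ perp D v := fun t ht =>
    ⟨hB.sub (hlB t ht), fun e => hvl (e ▸ ht), hB.comm v hvB t (hlB t ht)⟩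
  have hall : ∀ a ∈ D, ∀ b ∈ D, Commute a b → LiftsCommute π a b := by
    intro a ha b hb hab
    by_cases hne : b = a
    · subst hne; exact liftsCommute_refl hd b
    obtain ⟨t, ht⟩ := hlne
    have hvt : LiftsCommute π v t := liftsCommute_list hd hlodd (fun s hs => (hperp s hs).2.2) hlprod
      (fun s hs s' hs' e => by
        obtain ⟨g, hg1, hg2⟩ := h.pair_transitive (hB.sub hvB) (hperp s hs) (hB.sub hvB) (hperp s' hs')
        have := liftsCommute_conj hd g e
        rwa [hg1, hg2] at this) t ht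
    obtain ⟨g, hg1, hg2⟩ := h.pair_transitive (hB.sub hvB) (hperp t ht) ha ⟨hb, hne, hab⟩
    exact hg1 ▸ hg2 ▸ liftsCommute_conj hd g hvt
  have hsq : ∀ a ∈ D, LiftsSq π a := by
    intro a ha
    obtain ⟨t, ht⟩ := hlne
    have h1 := liftsSq_list hd hlodd (fun s hs s' hs' => hall s (hB.sub (hlB s hs)) s' (hB.sub (hlB s' hs'))
      (hB.comm s (hlB s hs) s' (hlB s' hs'))) (fun s hs => sq_eq_one h.cls.1 (hB.sub (hlB s hs))) hlprod
      (fun s hs s' hs' e => by
        obtain ⟨g, rfl⟩ := exists_conj h.cls (hB.sub (hlB s hs)) (hB.sub (hlB s' hs'))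
        exact liftsSq_conj hd g e) t ht
    obtain ⟨g, rfl⟩ := exists_conj h.cls (hB.sub (hlB t ht)) ha
    exact liftsSq_conj hd g h1
  by_cases hq1 : q = 1
  · rw [sq_eq hd (hx.trans (hq1.trans (map_one π).symm)), one_mul]
  haveI : Fact (Nat.Prime 2) := ⟨Nat.prime_two⟩
  obtain ⟨m, -, -, -, hmD, hmc, hmp⟩ := h.involution_form (orderOf_eq_prime (by rw [pow_two, hq]) hq1)
  exact list_commute hd (l := m) (fun s hs t ht => hall s (hmD s hs) t (hmD t ht) (hmc s hs t ht))
    (fun s hs => hsq s (hmD s hs)) x (hx.trans hmp.symm)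

/-- A simple group with a class of type M(22) satisfies the standing hypotheses. -/
theorem m22_of_simple [IsSimpleGroup Q] (hE : IsThreeTranspositionClass D) (ht : IsOfTypeM22 Q D) : M22 D := by
  have hG : IsThreeTranspositionGroup D := ⟨hE.1, fun g d hd => conj_mem hE g hd, hE.2.2⟩
  refine M22.mk' hG ?_ ht
  have hcor : ∀ p, Fact p.Prime → pCore p Q ≤ center Q := fun p hp => by
    haveI := (Cfsg.Lib.Components.pCore_normal_and_isPGroup (G := Q) p).1
    rcases IsSimpleGroup.eq_bot_or_eq_top_of_normal (pCore p Q) inferInstance with e | e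
    · rw [e]; exact bot_le
    · exfalso
      have hp' : IsPGroup p ↥(⊤ : Subgroup Q) := e ▸ Cfsg.Lib.Components.isPGroup_pCore p
      have h1 : IsPGroup p Q := hp'.of_equiv Subgroup.topEquiv
      haveI : Nontrivial Q := inferInstance
      exact (bot_lt_iff_ne_bot.1 h1.bot_lt_center) ht.1
  obtain ⟨a, ha, b, hb, hab⟩ : ∃ a ∈ D, ∃ b ∈ D, a ≠ b := by
    obtain ⟨a, ha, b, hb, hnc, -⟩ := ht.2
    exact ⟨a, ha, b, hb, fun e => hnc (e ▸ Commute.refl a)⟩
  have hS : Semisimple D := ⟨hE, ⟨a, ha, b, hb, hab⟩, hcor 2 ⟨Nat.prime_two⟩, hcor 3 ⟨Nat.prime_three⟩⟩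
  refine hS.primitive ?_
  rcases IsSimpleGroup.eq_bot_or_eq_top_of_normal (layer Q) inferInstance with e | e
  · exfalso
    haveI := hS.layer_comp.2.2
    haveI : Subsingleton ↥(layer Q) := by rw [e]; infer_instance
    exact not_subsingleton (↥(layer Q) ⧸ center ↥(layer Q)) inferInstance
  · rw [e, index_top]; norm_num

end Cfsg.Lib.DoubleCover
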